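import Mathlib
import Groth.Agent.FEtCat.Full
import Groth.Agent.FEtCat.Basic
import Groth.Agent.EtNormal.Basic
import Groth.Agent.FlatMor.GenericPts
import Groth.Agent.RegLoc.Basic
import Groth.Agent.RegLoc.UFD
import Groth.Agent.RegLoc.Completion
import Groth.Agent.PurityReg.ExtendNormal

/-!
# Dense opens of normal Noetherian schemes; extension of morphisms to a proper target in codimension one

* `fullFaithful_of_dense`: restriction of finite étale covers to a dense open of a normal Noetherian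
  scheme is fully faithful.
* `exists_extension_codimTwo`: over a Noetherian scheme with regular local rings, a morphism from a
  dense open to a proper scheme extends to an open whose complement has codimension at least two.
-/

set_option autoImplicit false
set_option linter.style.haveILetI false
set_option backward.isDefEq.respectTransparency.types false
universe u

open AlgebraicGeometry CategoryTheory CategoryTheory.Limits TopologicalSpace

noncomputable section

namespace Groth.Agent.SGA1Birat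

/-- The generic point of the component through a point with integral local ring. -/
def gen (X : Scheme.{u}) (x : X) [IsDomain (X.presheaf.stalk x)] : X :=
  X.fromSpecStalk x ⟨⊥, Ideal.isPrime_bot⟩

theorem gen_specializes {X : Scheme.{u}} (x : X) [IsDomain (X.presheaf.stalk x)] : gen X x ⤳ x := by
  have : gen X x ∈ Set.range (X.fromSpecStalk x) := ⟨_, rfl⟩
  rwa [Scheme.range_fromSpecStalk] at this

theorem gen_specializes_of_specializes {X : Scheme.{u}} (x : X) [IsDomain (X.presheaf.stalk x)] {z : X}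
    (hz : z ⤳ x) : gen X x ⤳ z := by
  obtain ⟨q, rfl⟩ : z ∈ Set.range (X.fromSpecStalk x) := by rw [Scheme.range_fromSpecStalk]; exact hz
  exact ((PrimeSpectrum.le_iff_specializes (⟨⊥, Ideal.isPrime_bot⟩ : PrimeSpectrum (X.presheaf.stalk x)) q).mp
    (show (⊥ : Ideal _) ≤ q.asIdeal from bot_le)).map (X.fromSpecStalk x).continuous

theorem gen_maximal {X : Scheme.{u}} (x : X) [IsDomain (X.presheaf.stalk x)] {z : X} (hz : z ⤳ gen X x) :
    gen X x ⤳ z :=
  gen_specializes_of_specializes x (hz.trans (gen_specializes x))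

/-- A point with integral local ring has a neighbourhood inside the closure of one maximal point. -/
theorem exists_nhd_specializes {X : Scheme.{u}} [IsNoetherian X] (x : X) [IsDomain (X.presheaf.stalk x)] :
    ∃ N : X.Opens, x ∈ N ∧ ∀ y ∈ N, gen X x ⤳ y := by
  have hfin : (irreducibleComponents X).Finite := NoetherianSpace.finite_irreducibleComponents
  let C : Set X := ⋃₀ {C ∈ irreducibleComponents X | x ∉ C}
  have hC : IsClosed C := by
    simp only [C, Set.sUnion_eq_biUnion]
    exact (hfin.subset fun _ h => h.1).isClosed_biUnion fun _ h => isClosed_of_mem_irreducibleComponents _ h.1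
  refine ⟨⟨Cᶜ, hC.isOpen_compl⟩, fun ⟨D, hD, hxD⟩ => hD.2 hxD, fun y hy => ?_⟩
  have hD : irreducibleComponent y ∈ irreducibleComponents X := irreducibleComponent_mem_irreducibleComponents y
  have hxD : x ∈ irreducibleComponent y := by
    by_contra h
    exact hy ⟨_, ⟨hD, h⟩, mem_irreducibleComponent⟩
  obtain ⟨c, hc⟩ := QuasiSober.sober (S := irreducibleComponent y) isIrreducible_irreducibleComponent
    isClosed_irreducibleComponent
  have hcx : c ⤳ x := specializes_iff_mem_closure.2 (hc.def.symm ▸ hxD)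
  exact (gen_specializes_of_specializes x hcx).trans (specializes_iff_mem_closure.2 (hc.def.symm ▸ mem_irreducibleComponent))

/-- Restriction of finite étale covers to a dense open of a normal Noetherian scheme is fully faithful. -/
theorem fullFaithful_of_dense {X : Scheme.{u}} [IsNoetherian X] (hX : Pi1.IsNormalScheme X) (U : X.Opens)
    (hU : Dense (U : Set X)) : (FEt.restrict U.ι).Full ∧ (FEt.restrict U.ι).Faithful := by
  have hr : ∀ Y : FEt.Cat X, Set.range (pullback.fst Y.hom U.ι) = (Y.hom ⁻¹' (U : Set X) : Set Y.left) := fun Y => by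
    rw [Scheme.Pullback.range_fst, Scheme.Opens.range_ι]
  have hd : ∀ Y : FEt.Cat X, Dense (Y.hom ⁻¹' (U : Set X) : Set Y.left) := fun Y => hU.preimage Y.hom.isOpenMap
  refine FEtCat.Full.full_faithful U.ι (fun Y W hW he => ?_) fun Y W' hW' => ?_
  · by_contra hne
    obtain ⟨w, hwW, hwU⟩ := (hd Y).inter_open_nonempty W hW.2 (Set.nonempty_iff_ne_empty.2 hne)
    obtain ⟨v, rfl⟩ := (hr Y).ge hwU
    exact Set.notMem_empty v (he ▸ hwW)
  · haveI : IsNoetherian Y.left :=
      haveI : IsLocallyNoetherian Y.left := LocallyOfFiniteType.isLocallyNoetherian (Y := X) Y.hom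
      haveI : CompactSpace Y.left := QuasiCompact.compactSpace_of_compactSpace (Y := X) Y.hom
      { }
    let p := pullback.fst Y.hom U.ι
    have hp : Topology.IsOpenEmbedding p := (pullback.fst Y.hom U.ι).isOpenEmbedding
    let S : Set Y.left := p '' W'
    let T : Set Y.left := p '' W'ᶜ
    have hd' : Dense (Set.range p) := by rw [hr]; exact hd Y
    have hcov : closure S ∪ closure T = Set.univ := by
      rw [← closure_union, ← Set.image_union, Set.union_compl_self, Set.image_univ, hd'.closure_eq]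
    have hdisj : closure S ∩ closure T = ∅ := by
      refine Set.eq_empty_of_forall_notMem fun y ⟨hyS, hyT⟩ => ?_
      haveI : IsDomain (Y.left.presheaf.stalk y) := (EtNormal.isNormalScheme_of_etale Y.hom hX y).1
      obtain ⟨N, hyN, hN⟩ := exists_nhd_specializes y
      obtain ⟨s, hsN, hsS⟩ := mem_closure_iff.1 hyS N N.2 hyN
      obtain ⟨t, htN, htT⟩ := mem_closure_iff.1 hyT N N.2 hyN
      obtain ⟨a, ha, hae⟩ := (hN s hsN).mem_open (hp.isOpenMap _ hW'.2) hsS
      obtain ⟨b, hb, hbe⟩ := (hN t htN).mem_open (hp.isOpenMap _ hW'.compl.2) htT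
      exact hb (hp.injective (hbe.trans hae.symm) ▸ ha)
    have hc : (closure S)ᶜ = closure T := by
      refine Set.Subset.antisymm (fun y hy => ((Set.eq_univ_iff_forall.1 hcov y).resolve_left hy))
        fun y hy hyS => Set.notMem_empty y (hdisj ▸ ⟨hyS, hy⟩)
    refine ⟨closure S, ⟨isClosed_closure, isClosed_compl_iff.1 (hc ▸ isClosed_closure)⟩, Set.ext fun v => ?_⟩
    refine ⟨fun hv => ?_, fun hv => subset_closure ⟨v, hv, rfl⟩⟩
    by_contra hn
    exact Set.notMem_empty (p v) (hdisj ▸ ⟨hv, subset_closure ⟨v, hn, rfl⟩⟩)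

theorem isNormalScheme_of_regular {X : Scheme.{u}} (h : ∀ x : X, IsRegularLocalRing (X.presheaf.stalk x)) :
    Pi1.IsNormalScheme X := fun x => by
  have := h x
  have := RegLoc.isDomain (X.presheaf.stalk x)
  have := RegLoc.UFD.uniqueFactorizationMonoid (X.presheaf.stalk x)
  exact ⟨inferInstance, inferInstance⟩

theorem isReduced_of_regular {X : Scheme.{u}} (h : ∀ x : X, IsRegularLocalRing (X.presheaf.stalk x)) :
    IsReduced X := by
  have : ∀ x : X, _root_.IsReduced (X.presheaf.stalk x) := fun x => by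
    have := h x
    have := RegLoc.isDomain (X.presheaf.stalk x)
    infer_instance
  exact isReduced_of_isReduced_stalk _

/-- The existence part of the valuative criterion, unbundled. -/
theorem exists_valuative_lift {Y B : Scheme.{u}} (R : Type u) [CommRing R] [IsDomain R] [IsDiscreteValuationRing R]
    (K : Type u) [Field K] [Algebra R K] [IsFractionRing R K] (g : Y ⟶ B) [UniversallyClosed g]
    (a : Spec (CommRingCat.of K) ⟶ Y) (b : Spec (CommRingCat.of R) ⟶ B)
    (h : a ≫ g = Spec.map (CommRingCat.ofHom (algebraMap R K)) ≫ b) :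
    ∃ φ : Spec (CommRingCat.of R) ⟶ Y, Spec.map (CommRingCat.ofHom (algebraMap R K)) ≫ φ = a ∧ φ ≫ g = b := by
  have hex : ValuativeCriterion.Existence g := by
    have h : UniversallyClosed g := inferInstance
    rw [UniversallyClosed.eq_valuativeCriterion] at h
    exact h.1
  let sq : ValuativeCommSq g := ⟨R, K, a, b, ⟨h⟩⟩
  haveI := hex sq
  exact ⟨_, sq.commSq.fac_left, sq.commSq.fac_right⟩

/-- A morphism from a dense open extends near every point whose regular local ring has dimension at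
most one. -/
theorem exists_extension_near {X Y B : Scheme.{u}} [IsNoetherian X]
    (hreg : ∀ x : X, IsRegularLocalRing (X.presheaf.stalk x)) (f : X ⟶ B) (g : Y ⟶ B) [IsProper g]
    (U : X.Opens) (hU : Dense (U : Set X)) (j : (U : Scheme.{u}) ⟶ Y) (hj : j ≫ g = U.ι ≫ f)
    (x : X) (hx : ringKrullDim (X.presheaf.stalk x) ≤ 1) :
    ∃ (W : X.Opens) (_ : x ∈ W) (w : (W : Scheme.{u}) ⟶ Y), w ≫ g = W.ι ≫ f ∧
      X.homOfLE (inf_le_left : W ⊓ U ≤ W) ≫ w = X.homOfLE (inf_le_right : W ⊓ U ≤ U) ≫ j := by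
  haveI := isReduced_of_regular hreg
  by_cases hxU : x ∈ U
  · exact ⟨U, hxU, j, hj, rfl⟩
  haveI := hreg x
  haveI := RegLoc.isDomain (X.presheaf.stalk x)
  have hdim : ringKrullDim (X.presheaf.stalk x) = 1 := le_antisymm hx (PurityReg.one_le_ringKrullDim_of_not_mem hU hxU)
  haveI : IsDiscreteValuationRing (X.presheaf.stalk x) := by
    obtain ⟨_, h⟩ := (RegLoc.Completion.exists_isDiscreteValuationRing_iff (X.presheaf.stalk x)).mpr ⟨hreg x, hdim⟩
    exact h
  have hz : gen X x ∈ U := FlatMor.GenericPts.mem_of_dense hU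
    ((FlatMor.GenericPts.closure_mem_irreducibleComponents_iff _).2 fun z hz => gen_maximal x hz)
  let K := FractionRing (X.presheaf.stalk x)
  let i : Spec (CommRingCat.of K) ⟶ X := Spec.map (CommRingCat.ofHom (algebraMap (X.presheaf.stalk x) K)) ≫ X.fromSpecStalk x
  have hi : Set.range i ⊆ Set.range U.ι := by
    rintro _ ⟨p, rfl⟩
    have hp : Spec.map (CommRingCat.ofHom (algebraMap (X.presheaf.stalk x) K)) p = (⟨⊥, Ideal.isPrime_bot⟩ : PrimeSpectrum (X.presheaf.stalk x)) := by
      refine PrimeSpectrum.ext ?_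
      change Ideal.comap (algebraMap (X.presheaf.stalk x) K) p.asIdeal = ⊥
      rw [show p.asIdeal = ⊥ from (Ideal.eq_bot_or_top p.asIdeal).resolve_right p.2.ne_top,
        Ideal.comap_bot_of_injective _ (IsFractionRing.injective (X.presheaf.stalk x) K)]
    rw [Scheme.Opens.range_ι, Scheme.Hom.comp_apply, hp]
    exact hz
  let i' := IsOpenImmersion.lift U.ι i hi
  have hi' : i' ≫ U.ι = i := IsOpenImmersion.lift_fac _ _ _
  have L := exists_valuative_lift (Y := Y) (B := B) (X.presheaf.stalk x) K g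
  obtain ⟨φ, hφ₁, hφ₂⟩ : ∃ φ : Spec (X.presheaf.stalk x) ⟶ Y,
      Spec.map (CommRingCat.ofHom (algebraMap (X.presheaf.stalk x) K)) ≫ φ = i' ≫ j ∧
      φ ≫ g = X.fromSpecStalk x ≫ f :=
    L (i' ≫ j) (X.fromSpecStalk x ≫ f)
      (by rw [Category.assoc, hj, ← Category.assoc, hi', Category.assoc])
  obtain ⟨W, hxW, w, hw, hwf⟩ := spread_out_of_isGermInjective' f g φ hφ₂
  obtain ⟨N, hxN, hN⟩ := exists_nhd_specializes x
  refine ⟨W ⊓ N, ⟨hxW, hxN⟩, X.homOfLE inf_le_left ≫ w, by rw [Category.assoc, hwf, Scheme.homOfLE_ι_assoc], ?_⟩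
  let O : X.Opens := W ⊓ N ⊓ U
  have hzO : gen X x ∈ O := ⟨⟨(gen_specializes x).mem_open W.2 hxW, (gen_specializes x).mem_open N.2 hxN⟩, hz⟩
  have hiO : Set.range i ⊆ Set.range O.ι := by
    rintro _ ⟨p, rfl⟩
    have hp : Spec.map (CommRingCat.ofHom (algebraMap (X.presheaf.stalk x) K)) p = (⟨⊥, Ideal.isPrime_bot⟩ : PrimeSpectrum (X.presheaf.stalk x)) := by
      refine PrimeSpectrum.ext ?_
      change Ideal.comap (algebraMap (X.presheaf.stalk x) K) p.asIdeal = ⊥
      rw [show p.asIdeal = ⊥ from (Ideal.eq_bot_or_top p.asIdeal).resolve_right p.2.ne_top,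
        Ideal.comap_bot_of_injective _ (IsFractionRing.injective (X.presheaf.stalk x) K)]
    rw [Scheme.Opens.range_ι, Scheme.Hom.comp_apply, hp]
    exact hzO
  let ι := IsOpenImmersion.lift O.ι i hiO
  have hι : ι ≫ O.ι = i := IsOpenImmersion.lift_fac _ _ _
  haveI : IsDominant ι := by
    refine ⟨fun y => ?_⟩
    let p : Spec (CommRingCat.of K) := (⟨⊥, Ideal.isPrime_bot⟩ : PrimeSpectrum K)
    have hp : O.ι (ι p) = gen X x := by
      rw [← Scheme.Hom.comp_apply, hι, Scheme.Hom.comp_apply]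
      refine congrArg (X.fromSpecStalk x) (PrimeSpectrum.ext ?_)
      change Ideal.comap (algebraMap (X.presheaf.stalk x) K) p.asIdeal = ⊥
      rw [show p.asIdeal = ⊥ from (Ideal.eq_bot_or_top p.asIdeal).resolve_right p.2.ne_top,
        Ideal.comap_bot_of_injective _ (IsFractionRing.injective (X.presheaf.stalk x) K)]
    refine closure_mono (show ({ι p} : Set _) ⊆ Set.range ι from Set.singleton_subset_iff.2 ⟨p, rfl⟩)
      (specializes_iff_mem_closure.1 ?_)
    rw [← Topology.IsInducing.specializes_iff O.ι.isEmbedding.isInducing, hp]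
    exact hN _ y.2.1.2
  refine ext_of_isDominant_of_isSeparated g ?_ ι ?_
  · rw [Category.assoc, Category.assoc, Category.assoc, hwf, hj, Scheme.homOfLE_ι_assoc, Scheme.homOfLE_ι_assoc,
      Scheme.homOfLE_ι_assoc]
  · have h1 : ι ≫ X.homOfLE (inf_le_right : O ≤ U) = i' := by
      rw [← cancel_mono U.ι, Category.assoc, Scheme.homOfLE_ι, hι, hi']
    have h2 : ι ≫ X.homOfLE (inf_le_left.trans inf_le_left : O ≤ W) =
        Spec.map (CommRingCat.ofHom (algebraMap (X.presheaf.stalk x) K)) ≫ W.fromSpecStalkOfMem x hxW := by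
      rw [← cancel_mono W.ι, Category.assoc, Category.assoc, Scheme.homOfLE_ι, hι,
        Scheme.Opens.fromSpecStalkOfMem_ι]
    rw [← Category.assoc, ← Category.assoc, ← Category.assoc, h1, ← hφ₁, hw, Category.assoc ι,
      Scheme.homOfLE_homOfLE, h2, Category.assoc]

/-- A morphism from a dense open of a Noetherian scheme with regular local rings to a proper scheme
extends to an open whose complement has codimension at least two. -/
theorem exists_extension_codimTwo {X Y B : Scheme.{u}} [IsNoetherian X]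
    (hreg : ∀ x : X, IsRegularLocalRing (X.presheaf.stalk x)) (f : X ⟶ B) (g : Y ⟶ B) [IsProper g]
    (U : X.Opens) (hU : Dense (U : Set X)) (j : (U : Scheme.{u}) ⟶ Y) (hj : j ≫ g = U.ι ≫ f) :
    ∃ (U' : X.Opens) (hle : U ≤ U') (φ : (U' : Scheme.{u}) ⟶ Y),
      (∀ x : X, x ∉ U' → (2 : WithBot ℕ∞) ≤ ringKrullDim (X.presheaf.stalk x)) ∧ X.homOfLE hle ≫ φ = j := by
  haveI := isReduced_of_regular hreg
  let J := Σ' (W : X.Opens) (w : (W : Scheme.{u}) ⟶ Y), w ≫ g = W.ι ≫ f ∧
    X.homOfLE (inf_le_left : W ⊓ U ≤ W) ≫ w = X.homOfLE (inf_le_right : W ⊓ U ≤ U) ≫ j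
  let V : J → X.Opens := fun a => a.1
  have key : ∀ a b : J, pullback.fst (X.homOfLE (le_iSup V a)) (X.homOfLE (le_iSup V b)) ≫ a.2.1 =
      pullback.snd (X.homOfLE (le_iSup V a)) (X.homOfLE (le_iSup V b)) ≫ b.2.1 := by
    rintro ⟨W, w, hw, hwj⟩ ⟨W', w', hw', hwj'⟩
    refine (cancel_epi (isPullback_opens_inf_le (le_iSup V ⟨W, w, hw, hwj⟩) (le_iSup V ⟨W', w', hw', hwj'⟩)).isoPullback.hom).1 ?_
    simp only [IsPullback.isoPullback_hom_fst_assoc, IsPullback.isoPullback_hom_snd_assoc]
    change X.homOfLE (inf_le_left : W ⊓ W' ≤ W) ≫ w = X.homOfLE (inf_le_right : W ⊓ W' ≤ W') ≫ w'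
    haveI : IsDominant (X.homOfLE (inf_le_left : W ⊓ W' ⊓ U ≤ W ⊓ W')) := by
      refine ⟨?_⟩
      have hd : Dense ((W ⊓ W').ι ⁻¹' (U : Set X)) := hU.preimage (W ⊓ W').ι.isOpenEmbedding.isOpenMap
      refine hd.mono fun y hy => ?_
      have h := congrArg (fun O : (↑(W ⊓ W') : Scheme.{u}).Opens => (↑O : Set (↑(W ⊓ W') : Scheme.{u})))
        (X.opensRange_homOfLE (inf_le_left : W ⊓ W' ⊓ U ≤ W ⊓ W'))
      exact h.ge ⟨y.2, hy⟩
    refine ext_of_isDominant_of_isSeparated g ?_ (X.homOfLE (inf_le_left : W ⊓ W' ⊓ U ≤ W ⊓ W')) ?_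
    · rw [Category.assoc, Category.assoc, hw, hw', Scheme.homOfLE_ι_assoc, Scheme.homOfLE_ι_assoc]
    · rw [Scheme.homOfLE_homOfLE_assoc, Scheme.homOfLE_homOfLE_assoc]
      have a1 := congrArg (X.homOfLE (le_inf (inf_le_left.trans inf_le_left) inf_le_right : W ⊓ W' ⊓ U ≤ W ⊓ U) ≫ ·) hwj
      have a2 := congrArg (X.homOfLE (le_inf (inf_le_left.trans inf_le_right) inf_le_right : W ⊓ W' ⊓ U ≤ W' ⊓ U) ≫ ·) hwj'
      simp only [Scheme.homOfLE_homOfLE_assoc] at a1 a2
      exact a1.trans a2.symm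
  let a₀ : J := ⟨U, j, hj, rfl⟩
  refine ⟨⨆ a, V a, le_iSup V a₀, (Scheme.Opens.iSupOpenCover V).glueMorphisms (fun a => a.2.1) key,
    fun x hx => ?_, (Scheme.Opens.iSupOpenCover V).ι_glueMorphisms _ key a₀⟩
  by_contra h2
  have h1 : ringKrullDim (X.presheaf.stalk x) ≤ 1 := Order.le_of_lt_succ (not_le.1 h2 |>.trans_le (by rfl))
  obtain ⟨W, hxW, w, hw, hwj⟩ := exists_extension_near hreg f g U hU j hj x h1
  exact hx (le_iSup V ⟨W, w, hw, hwj⟩ hxW)

end Groth.Agent.SGA1Birat
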